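/-
Certificate data of a coset enumeration.
-/
import Cfsg.Agent.Lib.CosetEnum.J3Z.Data

set_option autoImplicit false
set_option maxRecDepth 1000000

namespace CfsgLib.CosetEnum.J3Z

open CfsgLib.CosetEnum

/-- Justifications of the facts from 0. -/
def just0 : List ℕ := [0xfff, 0xfff, 0xfff, 0xfff, 0xfff, 0xfff, 0x20000500200100001001016, 0xfff, 0xfff, 0xfff, 0x10000200006000090030010000200108b, 0xfff, 0x1000030000b00200100002001019, 0xfff, 0x200000000070000d0030010000300108a, 0xe00003000020000d0010030000b00308a, 0xf0000300002000060000a00009000080000e0070010000700107c, 0x900008000100000e0000040000700408b, 0x70000f0000300000000070000f0000300000000070000f00000a0000400a003, 0x120000f00300000000000000, 0x4000120000c00300000005000004, 0x1000130001100300000002000004, 0x2000130000e00300000003000007, 0x140000b000150000a00400000005000009, 0x170000600200000005000000, 0x170000500200000005000007, 0x19000040001900004000190001700006000160000d0001800004000190001700006000160000d0001800004000000000130000000f00a, 0x10001a0000400300000002000004, 0x20001a000050001700400000003000007, 0x1a0001200200000000000014, 0x15000090001b000190001a00500000002000007, 0x1b0001c00200000002000014, 0x1e0001f00200000000000014]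

theorem just0_ok : data.okChunk 0 just0 = true := by decide +kernel

theorem just0_len : just0.length = 33 := by decide +kernel

end CfsgLib.CosetEnum.J3Z
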